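import Cfsg.Agent.Lib.Helper9.TCData.L34A0.Main

set_option autoImplicit false
set_option maxRecDepth 1000000

namespace Cfsg.Agent.Helper9.TCData.L34A0
open Cfsg.Agent.Helper9.TC2

theorem e1_7 : allRange 28945 7848 (fun u => chkE tab 1 u) = true := by decide +kernel

theorem e1_8 : allRange 36793 2926 (fun u => chkE tab 1 u) = true := by decide +kernel

theorem e2_0 : allRange 0 4374 (fun u => chkE tab 2 u) = true := by decide +kernel

theorem e2_1 : allRange 4374 3920 (fun u => chkE tab 2 u) = true := by decide +kernel

theorem e2_2 : allRange 8294 4247 (fun u => chkE tab 2 u) = true := by decide +kernel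

theorem e2_3 : allRange 12541 3601 (fun u => chkE tab 2 u) = true := by decide +kernel

theorem e2_4 : allRange 16142 4074 (fun u => chkE tab 2 u) = true := by decide +kernel

theorem e2_5 : allRange 20216 5634 (fun u => chkE tab 2 u) = true := by decide +kernel


end Cfsg.Agent.Helper9.TCData.L34A0
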