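import Cfsg.Agent.Lib.Helper9.TCData.L34A0.Main

set_option autoImplicit false
set_option maxRecDepth 1000000

namespace Cfsg.Agent.Helper9.TCData.L34A0
open Cfsg.Agent.Helper9.TC2

theorem l_0 : allRange 0 4416 (fun u => chkL tab u) = true := by decide +kernel

theorem l_1 : allRange 4416 1579 (fun u => chkL tab u) = true := by decide +kernel

theorem l_2 : allRange 5995 1593 (fun u => chkL tab u) = true := by decide +kernel

theorem l_3 : allRange 7588 1585 (fun u => chkL tab u) = true := by decide +kernel

theorem l_4 : allRange 9173 1592 (fun u => chkL tab u) = true := by decide +kernel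

theorem l_5 : allRange 10765 1587 (fun u => chkL tab u) = true := by decide +kernel

theorem l_6 : allRange 12352 1599 (fun u => chkL tab u) = true := by decide +kernel

theorem l_7 : allRange 13951 1587 (fun u => chkL tab u) = true := by decide +kernel


end Cfsg.Agent.Helper9.TCData.L34A0
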