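import Cfsg.Agent.Lib.Helper9.TCData.L34A0.S0
import Cfsg.Agent.Lib.Helper9.TCData.L34A0.S1
import Cfsg.Agent.Lib.Helper9.TCData.L34A0.S2
import Cfsg.Agent.Lib.Helper9.TCData.L34A0.S3
import Cfsg.Agent.Lib.Helper9.TCData.L34A0.S4
import Cfsg.Agent.Lib.Helper9.TCData.L34A0.S5
import Cfsg.Agent.Lib.Helper9.TCData.L34A0.S6
import Cfsg.Agent.Lib.Helper9.TCData.L34A0.S7
import Cfsg.Agent.Lib.Helper9.TCData.L34A0.S8
import Cfsg.Agent.Lib.Helper9.TCData.L34A0.S9
import Cfsg.Agent.Lib.Helper9.TCData.L34A0.S10
import Cfsg.Agent.Lib.Helper9.TCData.L34A0.S11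

set_option autoImplicit false
set_option maxRecDepth 1000000

namespace Cfsg.Agent.Helper9.TCData.L34A0
open Cfsg.Agent.Helper9.TC2


theorem hE0 : ∀ u < 39719, chkE tab 0 u = true := by
  have h0 : ∀ u < 0, (fun u => chkE tab 0 u) u = true := range_zero
  have h1 : ∀ u < 3556, (fun u => chkE tab 0 u) u = true := ext_range (a := 0) (len := 3556) h0 e0_0
  have h2 : ∀ u < 7225, (fun u => chkE tab 0 u) u = true := ext_range (a := 3556) (len := 3669) h1 e0_1
  have h3 : ∀ u < 10964, (fun u => chkE tab 0 u) u = true := ext_range (a := 7225) (len := 3739) h2 e0_2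
  have h4 : ∀ u < 14530, (fun u => chkE tab 0 u) u = true := ext_range (a := 10964) (len := 3566) h3 e0_3
  have h5 : ∀ u < 17969, (fun u => chkE tab 0 u) u = true := ext_range (a := 14530) (len := 3439) h4 e0_4
  have h6 : ∀ u < 21931, (fun u => chkE tab 0 u) u = true := ext_range (a := 17969) (len := 3962) h5 e0_5
  have h7 : ∀ u < 27607, (fun u => chkE tab 0 u) u = true := ext_range (a := 21931) (len := 5676) h6 e0_6
  have h8 : ∀ u < 34476, (fun u => chkE tab 0 u) u = true := ext_range (a := 27607) (len := 6869) h7 e0_7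
  have h9 : ∀ u < 39719, (fun u => chkE tab 0 u) u = true := ext_range (a := 34476) (len := 5243) h8 e0_8
  exact h9

theorem hE1 : ∀ u < 39719, chkE tab 1 u = true := by
  have h0 : ∀ u < 0, (fun u => chkE tab 1 u) u = true := range_zero
  have h1 : ∀ u < 3732, (fun u => chkE tab 1 u) u = true := ext_range (a := 0) (len := 3732) h0 e1_0
  have h2 : ∀ u < 7416, (fun u => chkE tab 1 u) u = true := ext_range (a := 3732) (len := 3684) h1 e1_1
  have h3 : ∀ u < 10983, (fun u => chkE tab 1 u) u = true := ext_range (a := 7416) (len := 3567) h2 e1_2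
  have h4 : ∀ u < 14529, (fun u => chkE tab 1 u) u = true := ext_range (a := 10983) (len := 3546) h3 e1_3
  have h5 : ∀ u < 17987, (fun u => chkE tab 1 u) u = true := ext_range (a := 14529) (len := 3458) h4 e1_4
  have h6 : ∀ u < 22097, (fun u => chkE tab 1 u) u = true := ext_range (a := 17987) (len := 4110) h5 e1_5
  have h7 : ∀ u < 28945, (fun u => chkE tab 1 u) u = true := ext_range (a := 22097) (len := 6848) h6 e1_6
  have h8 : ∀ u < 36793, (fun u => chkE tab 1 u) u = true := ext_range (a := 28945) (len := 7848) h7 e1_7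
  have h9 : ∀ u < 39719, (fun u => chkE tab 1 u) u = true := ext_range (a := 36793) (len := 2926) h8 e1_8
  exact h9

theorem hE2 : ∀ u < 39719, chkE tab 2 u = true := by
  have h0 : ∀ u < 0, (fun u => chkE tab 2 u) u = true := range_zero
  have h1 : ∀ u < 4374, (fun u => chkE tab 2 u) u = true := ext_range (a := 0) (len := 4374) h0 e2_0
  have h2 : ∀ u < 8294, (fun u => chkE tab 2 u) u = true := ext_range (a := 4374) (len := 3920) h1 e2_1
  have h3 : ∀ u < 12541, (fun u => chkE tab 2 u) u = true := ext_range (a := 8294) (len := 4247) h2 e2_2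
  have h4 : ∀ u < 16142, (fun u => chkE tab 2 u) u = true := ext_range (a := 12541) (len := 3601) h3 e2_3
  have h5 : ∀ u < 20216, (fun u => chkE tab 2 u) u = true := ext_range (a := 16142) (len := 4074) h4 e2_4
  have h6 : ∀ u < 25850, (fun u => chkE tab 2 u) u = true := ext_range (a := 20216) (len := 5634) h5 e2_5
  have h7 : ∀ u < 32496, (fun u => chkE tab 2 u) u = true := ext_range (a := 25850) (len := 6646) h6 e2_6
  have h8 : ∀ u < 39719, (fun u => chkE tab 2 u) u = true := ext_range (a := 32496) (len := 7223) h7 e2_7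
  exact h8

theorem hE3 : ∀ u < 39719, chkE tab 3 u = true := by
  have h0 : ∀ u < 0, (fun u => chkE tab 3 u) u = true := range_zero
  have h1 : ∀ u < 6637, (fun u => chkE tab 3 u) u = true := ext_range (a := 0) (len := 6637) h0 e3_0
  have h2 : ∀ u < 13236, (fun u => chkE tab 3 u) u = true := ext_range (a := 6637) (len := 6599) h1 e3_1
  have h3 : ∀ u < 19856, (fun u => chkE tab 3 u) u = true := ext_range (a := 13236) (len := 6620) h2 e3_2
  have h4 : ∀ u < 30929, (fun u => chkE tab 3 u) u = true := ext_range (a := 19856) (len := 11073) h3 e3_3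
  have h5 : ∀ u < 39719, (fun u => chkE tab 3 u) u = true := ext_range (a := 30929) (len := 8790) h4 e3_4
  exact h5

theorem hL : ∀ u < 39719, chkL tab u = true := by
  have h0 : ∀ u < 0, (fun u => chkL tab u) u = true := range_zero
  have h1 : ∀ u < 4416, (fun u => chkL tab u) u = true := ext_range (a := 0) (len := 4416) h0 l_0
  have h2 : ∀ u < 5995, (fun u => chkL tab u) u = true := ext_range (a := 4416) (len := 1579) h1 l_1
  have h3 : ∀ u < 7588, (fun u => chkL tab u) u = true := ext_range (a := 5995) (len := 1593) h2 l_2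
  have h4 : ∀ u < 9173, (fun u => chkL tab u) u = true := ext_range (a := 7588) (len := 1585) h3 l_3
  have h5 : ∀ u < 10765, (fun u => chkL tab u) u = true := ext_range (a := 9173) (len := 1592) h4 l_4
  have h6 : ∀ u < 12352, (fun u => chkL tab u) u = true := ext_range (a := 10765) (len := 1587) h5 l_5
  have h7 : ∀ u < 13951, (fun u => chkL tab u) u = true := ext_range (a := 12352) (len := 1599) h6 l_6
  have h8 : ∀ u < 15538, (fun u => chkL tab u) u = true := ext_range (a := 13951) (len := 1587) h7 l_7
  have h9 : ∀ u < 17130, (fun u => chkL tab u) u = true := ext_range (a := 15538) (len := 1592) h8 l_8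
  have h10 : ∀ u < 18728, (fun u => chkL tab u) u = true := ext_range (a := 17130) (len := 1598) h9 l_9
  have h11 : ∀ u < 20298, (fun u => chkL tab u) u = true := ext_range (a := 18728) (len := 1570) h10 l_10
  have h12 : ∀ u < 21888, (fun u => chkL tab u) u = true := ext_range (a := 20298) (len := 1590) h11 l_11
  have h13 : ∀ u < 23484, (fun u => chkL tab u) u = true := ext_range (a := 21888) (len := 1596) h12 l_12
  have h14 : ∀ u < 25056, (fun u => chkL tab u) u = true := ext_range (a := 23484) (len := 1572) h13 l_13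
  have h15 : ∀ u < 26630, (fun u => chkL tab u) u = true := ext_range (a := 25056) (len := 1574) h14 l_14
  have h16 : ∀ u < 28226, (fun u => chkL tab u) u = true := ext_range (a := 26630) (len := 1596) h15 l_15
  have h17 : ∀ u < 29819, (fun u => chkL tab u) u = true := ext_range (a := 28226) (len := 1593) h16 l_16
  have h18 : ∀ u < 31412, (fun u => chkL tab u) u = true := ext_range (a := 29819) (len := 1593) h17 l_17
  have h19 : ∀ u < 32997, (fun u => chkL tab u) u = true := ext_range (a := 31412) (len := 1585) h18 l_18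
  have h20 : ∀ u < 34597, (fun u => chkL tab u) u = true := ext_range (a := 32997) (len := 1600) h19 l_19
  have h21 : ∀ u < 36174, (fun u => chkL tab u) u = true := ext_range (a := 34597) (len := 1577) h20 l_20
  have h22 : ∀ u < 37772, (fun u => chkL tab u) u = true := ext_range (a := 36174) (len := 1598) h21 l_21
  have h23 : ∀ u < 39359, (fun u => chkL tab u) u = true := ext_range (a := 37772) (len := 1587) h22 l_22
  have h24 : ∀ u < 39719, (fun u => chkL tab u) u = true := ext_range (a := 39359) (len := 360) h23 l_23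
  exact h24

theorem hF : ∀ u < 2880, chkFin tab u = true := by
  have h0 : ∀ u < 0, (fun u => chkFin tab u) u = true := range_zero
  have h1 : ∀ u < 572, (fun u => chkFin tab u) u = true := ext_range (a := 0) (len := 572) h0 f_0
  have h2 : ∀ u < 1144, (fun u => chkFin tab u) u = true := ext_range (a := 572) (len := 572) h1 f_1
  have h3 : ∀ u < 1716, (fun u => chkFin tab u) u = true := ext_range (a := 1144) (len := 572) h2 f_2
  have h4 : ∀ u < 2288, (fun u => chkFin tab u) u = true := ext_range (a := 1716) (len := 572) h3 f_3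
  have h5 : ∀ u < 2860, (fun u => chkFin tab u) u = true := ext_range (a := 2288) (len := 572) h4 f_4
  have h6 : ∀ u < 2880, (fun u => chkFin tab u) u = true := ext_range (a := 2860) (len := 20) h5 f_5
  exact h6

theorem hC : ∀ u < 39719, chkCls tab u = true := by
  have h0 : ∀ u < 0, (fun u => chkCls tab u) u = true := range_zero
  have h1 : ∀ u < 2667, (fun u => chkCls tab u) u = true := ext_range (a := 0) (len := 2667) h0 c_0
  have h2 : ∀ u < 5334, (fun u => chkCls tab u) u = true := ext_range (a := 2667) (len := 2667) h1 c_1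
  have h3 : ∀ u < 8001, (fun u => chkCls tab u) u = true := ext_range (a := 5334) (len := 2667) h2 c_2
  have h4 : ∀ u < 10668, (fun u => chkCls tab u) u = true := ext_range (a := 8001) (len := 2667) h3 c_3
  have h5 : ∀ u < 13335, (fun u => chkCls tab u) u = true := ext_range (a := 10668) (len := 2667) h4 c_4
  have h6 : ∀ u < 16002, (fun u => chkCls tab u) u = true := ext_range (a := 13335) (len := 2667) h5 c_5
  have h7 : ∀ u < 18669, (fun u => chkCls tab u) u = true := ext_range (a := 16002) (len := 2667) h6 c_6
  have h8 : ∀ u < 21336, (fun u => chkCls tab u) u = true := ext_range (a := 18669) (len := 2667) h7 c_7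
  have h9 : ∀ u < 24003, (fun u => chkCls tab u) u = true := ext_range (a := 21336) (len := 2667) h8 c_8
  have h10 : ∀ u < 26670, (fun u => chkCls tab u) u = true := ext_range (a := 24003) (len := 2667) h9 c_9
  have h11 : ∀ u < 29337, (fun u => chkCls tab u) u = true := ext_range (a := 26670) (len := 2667) h10 c_10
  have h12 : ∀ u < 32004, (fun u => chkCls tab u) u = true := ext_range (a := 29337) (len := 2667) h11 c_11
  have h13 : ∀ u < 34671, (fun u => chkCls tab u) u = true := ext_range (a := 32004) (len := 2667) h12 c_12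
  have h14 : ∀ u < 37338, (fun u => chkCls tab u) u = true := ext_range (a := 34671) (len := 2667) h13 c_13
  have h15 : ∀ u < 39719, (fun u => chkCls tab u) u = true := ext_range (a := 37338) (len := 2381) h14 c_14
  exact h15

theorem hM1 : ∀ u < 2880, chkM1 tab u = true := by
  have h0 : ∀ u < 0, (fun u => chkM1 tab u) u = true := range_zero
  have h1 : ∀ u < 1510, (fun u => chkM1 tab u) u = true := ext_range (a := 0) (len := 1510) h0 m1_0
  have h2 : ∀ u < 2880, (fun u => chkM1 tab u) u = true := ext_range (a := 1510) (len := 1370) h1 m1_1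
  exact h2

theorem hMA : ∀ u < 2880, chkAux tab aux u = true := by
  have h0 : ∀ u < 0, (fun u => chkAux tab aux u) u = true := range_zero
  have h1 : ∀ u < 728, (fun u => chkAux tab aux u) u = true := ext_range (a := 0) (len := 728) h0 ma_0
  have h2 : ∀ u < 1456, (fun u => chkAux tab aux u) u = true := ext_range (a := 728) (len := 728) h1 ma_1
  have h3 : ∀ u < 2184, (fun u => chkAux tab aux u) u = true := ext_range (a := 1456) (len := 728) h2 ma_2
  have h4 : ∀ u < 2880, (fun u => chkAux tab aux u) u = true := ext_range (a := 2184) (len := 696) h3 ma_3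
  exact h4

theorem hM2A : ∀ u < 2880, chkFix tab mwordsA u = true := by
  have h0 : ∀ u < 0, (fun u => chkFix tab mwordsA u) u = true := range_zero
  have h1 : ∀ u < 371, (fun u => chkFix tab mwordsA u) u = true := ext_range (a := 0) (len := 371) h0 m2_0
  have h2 : ∀ u < 742, (fun u => chkFix tab mwordsA u) u = true := ext_range (a := 371) (len := 371) h1 m2_1
  have h3 : ∀ u < 1113, (fun u => chkFix tab mwordsA u) u = true := ext_range (a := 742) (len := 371) h2 m2_2
  have h4 : ∀ u < 1484, (fun u => chkFix tab mwordsA u) u = true := ext_range (a := 1113) (len := 371) h3 m2_3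
  have h5 : ∀ u < 1855, (fun u => chkFix tab mwordsA u) u = true := ext_range (a := 1484) (len := 371) h4 m2_4
  have h6 : ∀ u < 2226, (fun u => chkFix tab mwordsA u) u = true := ext_range (a := 1855) (len := 371) h5 m2_5
  have h7 : ∀ u < 2597, (fun u => chkFix tab mwordsA u) u = true := ext_range (a := 2226) (len := 371) h6 m2_6
  have h8 : ∀ u < 2880, (fun u => chkFix tab mwordsA u) u = true := ext_range (a := 2597) (len := 283) h7 m2_7
  exact h8

theorem hE : ∀ c < 4, ∀ u < 39719, chkE tab c u = true := by
  intro c hc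
  interval_cases c
  · exact hE0
  · exact hE1
  · exact hE2
  · exact hE3

end Cfsg.Agent.Helper9.TCData.L34A0
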