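import Mathlib
import Cfsg.Agent.Lib.Helper9.TC2Cox
import Cfsg.Agent.Lib.Helper9.TC2Aux
import Cfsg.Agent.Lib.Helper9.TC2Chain
import Cfsg.Agent.Lib.Helper9.TCData.L34A0.All

set_option autoImplicit false
set_option maxRecDepth 1000000

namespace Cfsg.Agent.Helper9.TCData.L34A0

open Cfsg.Agent.Helper9.TC2 Cfsg.Spor 

/-- The generators. -/
abbrev Gen := Fin 2

/-- The graph. -/
def edges : List (Gen × ℕ × Gen) := []

/-- The further relators. -/
def extra : List (FreeGroup Gen) := [
  FreeGroup.mk [((0 : Fin 2), true), ((0 : Fin 2), true), ((0 : Fin 2), true), ((0 : Fin 2), true), ((0 : Fin 2), true)],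
  FreeGroup.mk [((1 : Fin 2), true), ((1 : Fin 2), true), ((1 : Fin 2), true), ((1 : Fin 2), true), ((1 : Fin 2), true), ((1 : Fin 2), true), ((1 : Fin 2), true)],
  FreeGroup.mk [((1 : Fin 2), true), ((0 : Fin 2), false), ((1 : Fin 2), true), ((1 : Fin 2), true), ((0 : Fin 2), false), ((1 : Fin 2), true)],
  FreeGroup.mk [((1 : Fin 2), false), ((0 : Fin 2), true), ((1 : Fin 2), false), ((0 : Fin 2), true), ((1 : Fin 2), false), ((0 : Fin 2), true), ((1 : Fin 2), false), ((0 : Fin 2), true)],
  FreeGroup.mk [((1 : Fin 2), true), ((1 : Fin 2), true), ((1 : Fin 2), true), ((0 : Fin 2), false), ((1 : Fin 2), true), ((0 : Fin 2), false), ((1 : Fin 2), true), ((1 : Fin 2), true), ((1 : Fin 2), true), ((1 : Fin 2), true), ((0 : Fin 2), false), ((1 : Fin 2), true), ((0 : Fin 2), false), ((1 : Fin 2), true), ((1 : Fin 2), true), ((1 : Fin 2), true), ((1 : Fin 2), true), ((0 : Fin 2), false), ((1 : Fin 2), true), ((0 : Fin 2), false), ((1 : Fin 2), true), ((1 : Fin 2), true), ((1 : Fin 2), true), ((1 : Fin 2), true), ((0 : Fin 2),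 false), ((1 : Fin 2), true), ((0 : Fin 2), false), ((1 : Fin 2), true), ((1 : Fin 2), true), ((1 : Fin 2), true), ((1 : Fin 2), true), ((0 : Fin 2), false), ((1 : Fin 2), true), ((0 : Fin 2), false), ((1 : Fin 2), true)],
  FreeGroup.mk [((1 : Fin 2), true), ((1 : Fin 2), true), ((1 : Fin 2), true), ((0 : Fin 2), false), ((1 : Fin 2), true), ((0 : Fin 2), false), ((1 : Fin 2), true), ((0 : Fin 2), true), ((1 : Fin 2), true), ((1 : Fin 2), true), ((1 : Fin 2), true), ((0 : Fin 2), false), ((1 : Fin 2), true), ((0 : Fin 2), false), ((1 : Fin 2), true), ((0 : Fin 2), true), ((1 : Fin 2), true), ((1 : Fin 2), true), ((1 : Fin 2), true), ((0 : Fin 2), false), ((1 : Fin 2), true), ((0 : Fin 2), false), ((1 : Fin 2), true), ((0 : Fin 2), true), ((1 : Fin 2), true), ((1 : Fin 2), true), ((1 : Fin 2), true), ((0 : Fin 2), false), ((1 : Fin 2), true), ((0 : Fin 2), false), ((1 : Fin 2), true), ((0 : Fin 2), true), ((1 : Fin 2), true), ((1 : Fin 2), true), ((1 : Fin 2), true), ((0 : Fin 2), false), ((1 : Fin 2), true), ((0 : Fin 2),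 false), ((1 : Fin 2), true), ((0 : Fin 2), true)]]

/-- The generators of the subgroup, as a list. -/
def sgensL : List (FreeGroup Gen) := [FreeGroup.mk [((1 : Fin 2), true)]]

/-- The columns: generators with signs. -/
def cols : List (Gen × Bool) := [((0 : Fin 2), true), ((0 : Fin 2), false), ((1 : Fin 2), true), ((1 : Fin 2), false)]

/-- The nodes of the graph. -/
def nodes : List Gen := []

/-- The generators of the subgroup. -/
def sgens : List (FreeGroup Gen) := sgensL

theorem relWords_eq : relWords = (relList edges extra nodes).map (colWord cols) := by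
  decide +kernel

theorem rot_ok : chkRotSrc relWords rotSrc rotT.leaves = true := by decide +kernel

theorem permOK : PermOK tab := ⟨by decide, by decide, hM1⟩

theorem hM2 : ∀ i < tab.n, chkFix tab (mwordsA.map (expand tab.k aux)) i = true :=
  chkFix_expand permOK (by decide) hMA (by decide) hM2A

/-- The certificate. -/
noncomputable def cert : CoxCert edges extra ({s | s ∈ sgensL}) where
  cols := cols
  nodes := nodes
  sgens := sgens
  D := tab
  mwords := mwordsA.map (expand tab.k aux)
  hcols := ⟨by decide, by decide, by decide, by decide⟩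
  hnodes1 := by decide
  hnodes2 := by decide
  hS := by
    rfl
  hk := rfl
  hinv := by decide
  hinv2 := by decide
  hrot := by
    intro i
    have h := chkRotSrc_sound rot_ok _ (rotT.getF_mem_leaves i)
    rw [relWords_eq] at h
    exact h
  hsubs := by decide +kernel
  hdead := by decide +kernel
  hn0 := by decide
  hrep0 := by decide +kernel
  hE := hE
  hL := hL
  hF := hF
  hC := hC
  hM1 := hM1
  hmw1 := by decide +kernel
  hmw2 := by decide +kernel
  hM2 := hM2
  hM3 := by decide +kernel

theorem cert_n : cert.D.n = 2880 := rfl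

end Cfsg.Agent.Helper9.TCData.L34A0
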