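import Cfsg.Agent.Lib.Helper9.TC2Cox
import Cfsg.Agent.Lib.Helper9.TC2Aux
import Cfsg.Agent.Lib.Helper9.TC2BSGS
import Cfsg.Agent.Lib.Helper9.TC2Pack
import Cfsg.Agent.Lib.Helper9.TCData.L34A0.P0

set_option autoImplicit false
set_option maxRecDepth 100000

namespace Cfsg.Agent.Helper9.TCData.L34A0
open Cfsg.Agent.Helper9.TC2
/-- The rotated relators. -/
noncomputable def rotT : WT := (WT.node 9 (WT.node 4 (WT.node 2 (WT.node 1 (WT.leaf [0, 0, 0, 0, 0]) (WT.leaf [0, 3, 0, 3, 0, 3, 0, 3])) (WT.node 3 (WT.leaf [0, 2, 2, 2, 1, 2, 1, 2, 0, 2, 2, 2, 1, 2, 1, 2, 0, 2, 2, 2, 1, 2, 1, 2, 0, 2, 2, 2, 1, 2, 1, 2, 0, 2, 2, 2, 1, 2, 1, 2]) (WT.leaf [1, 2, 2, 1, 2, 2]))) (WT.node 6 (WT.node 5 (WT.leaf [1, 2, 2, 2, 2, 1, 2, 1, 2, 2, 2, 2, 1, 2, 1, 2, 2, 2, 2, 1, 2, 1,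 2, 2, 2, 2, 1, 2, 1, 2, 2, 2, 2, 1, 2]) (WT.leaf [1, 2, 1, 2, 2, 2, 2, 1, 2, 1, 2, 2, 2, 2, 1, 2, 1, 2, 2, 2, 2, 1, 2, 1, 2, 2, 2, 2, 1, 2, 1, 2, 2, 2, 2])) (WT.node 7 (WT.leaf [2, 1, 2, 2, 1, 2]) (WT.node 8 (WT.leaf [2, 2, 2, 2, 2, 2, 2]) (WT.leaf [2, 2, 1, 2, 2, 1]))))) (WT.node 13 (WT.node 11 (WT.node 10 (WT.leaf [2, 2, 2, 1, 2, 1, 2, 2, 2, 2, 1, 2, 1, 2, 2, 2, 2, 1, 2, 1, 2, 2, 2, 2, 1, 2, 1, 2, 2, 2, 2, 1, 2, 1, 2]) (WT.leaf [2, 2, 1, 2, 1, 2, 2, 2, 2, 1, 2, 1, 2, 2, 2, 2, 1, 2, 1, 2, 2, 2, 2, 1, 2, 1, 2, 2, 2, 2, 1, 2, 1, 2, 2])) (WT.node 12 (WT.leaf [2, 1, 2, 1, 2, 2, 2, 2, 1, 2, 1, 2, 2, 2, 2, 1, 2, 1, 2, 2, 2, 2, 1, 2, 1, 2, 2, 2, 2, 1, 2, 1, 2, 2, 2]) (WT.leaf [2, 2, 2, 2, 1, 2, 1, 2, 2, 2, 2, 1, 2, 1, 2, 2, 2, 2, 1, 2, 1, 2, 2, 2, 2, 1, 2, 1,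 2, 2, 2, 2, 1, 2, 1]))) (WT.node 15 (WT.node 14 (WT.leaf [2, 0, 2, 2, 2, 1, 2, 1, 2, 0, 2, 2, 2, 1, 2, 1, 2, 0, 2, 2, 2, 1, 2, 1, 2, 0, 2, 2, 2, 1, 2, 1, 2, 0, 2, 2, 2, 1, 2, 1]) (WT.leaf [2, 2, 1, 2, 1, 2, 0, 2, 2, 2, 1, 2, 1, 2, 0, 2, 2, 2, 1, 2, 1, 2, 0, 2, 2, 2, 1, 2, 1, 2, 0, 2, 2, 2, 1, 2, 1, 2, 0, 2])) (WT.node 16 (WT.leaf [2, 2, 2, 1, 2, 1, 2, 0, 2, 2, 2, 1, 2, 1, 2, 0, 2, 2, 2, 1, 2, 1, 2, 0, 2, 2, 2, 1, 2, 1, 2, 0, 2, 2, 2, 1, 2, 1, 2, 0]) (WT.node 17 (WT.leaf [2, 1, 2, 1, 2, 0, 2, 2, 2, 1, 2, 1, 2, 0, 2, 2, 2, 1, 2, 1, 2, 0, 2, 2, 2, 1, 2, 1, 2, 0, 2, 2, 2, 1, 2, 1, 2, 0, 2, 2]) (WT.leaf [3, 0, 3, 0, 3, 0, 3, 0]))))))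

/-- The sources of the rotated relators: relator and rotation. -/
def rotSrc : List (ℕ × ℕ) := [(0, 1), (3, 1), (5, 7), (2, 1), (4, 5), (4, 3), (2, 3), (1, 1), (2, 2), (4, 0), (4, 22), (4, 2), (4, 6), (5, 6), (5, 1), (5, 8), (5, 2), (3, 2)]

/-- The relators, as words of columns. -/
def relWords : List (List ℕ) := [[0, 0, 0, 0, 0], [2, 2, 2, 2, 2, 2, 2], [2, 1, 2, 2, 1, 2], [3, 0, 3, 0, 3, 0, 3, 0], [2, 2, 2, 1, 2, 1, 2, 2, 2, 2, 1, 2, 1, 2, 2, 2, 2, 1, 2, 1, 2, 2, 2, 2, 1, 2, 1, 2, 2, 2, 2, 1, 2, 1, 2], [2, 2, 2, 1, 2, 1, 2, 0, 2, 2, 2, 1, 2, 1, 2, 0, 2, 2, 2, 1, 2, 1, 2, 0, 2, 2, 2, 1, 2, 1, 2, 0, 2, 2, 2, 1, 2, 1, 2, 0]]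

/-- The words of the auxiliary columns. -/
def aux : List (List ℕ) := [[2, 2, 2, 1, 2, 1, 2], [2, 2, 2, 1, 2, 1, 2, 0]]

/-- The words checked on the permutation model, with auxiliary columns. -/
def mwordsA : List (List ℕ) := [[0, 0, 0, 0, 0], [2, 2, 2, 2, 2, 2, 2], [2, 1, 2, 2, 1, 2], [3, 0, 3, 0, 3, 0, 3, 0], [4, 4, 4, 4, 4], [5, 5, 5, 5, 5]]

/-- The table. -/
noncomputable def tab : Tab where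
  k := 4
  inv := fun c => (bif Nat.beq c 0 then 1 else (bif Nat.beq c 1 then 0 else (bif Nat.beq c 2 then 3 else (bif Nat.beq c 3 then 2 else c))))
  N := 39719
  n := 2880
  Tmax := 151058
  wn := 16
  mn := 0xffff
  subs := [[2]]
  rot := fun i => rotT.getF i
  ent := fun c i => bget2 entT_0 8 8 34 0x3ffffffff 255 c i
  cer := fun c i => bget2 cerT_0 7 9 19 0x7ffff 511 c i
  tau := fun c i => bget2 tauT_0 2 10 12 0xfff 1023 c i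
  lk := fun i => bget lkT_0 8 34 0x3ffffffff 255 i
  lc := fun i => bget lcT_0 8 36 0xfffffffff 255 i
  pn := fun i => bget pnT_0 9 18 0x3ffff 511 i
  cls := fun i => bget clsT_0 10 12 0xfff 1023 i
  rep := fun i => bget repT_0 10 12 0xfff 1023 i

end Cfsg.Agent.Helper9.TCData.L34A0
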